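import Cfsg.Agent.TypeM.OutLyFin
import Cfsg.Agent.TypeM.OuterInst
import Cfsg.Agent.H686.Odd.McLFive
import Cfsg.Agent.H681.TI.Rows

/-!
# S4819, row `McL`: the centralizer of a Sylow 5-subgroup (helper476)

* `eq_one_of_fix` : an automorphism of order prime to five of a group of type `McL` which fixes a Sylow 5-subgroup
  pointwise is trivial;
* `hC` : `C_H(R)` for `McL`, `McL.2` (input of `H681.TI.rowMcL_of`).
-/

set_option autoImplicit false
set_option maxRecDepth 100000

namespace Cfsg.Agent.H476.TI.McLCent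

open Subgroup Equiv Cfsg.Agent.SporRec.TwoAn Cfsg.Agent.TypeM.Two Cfsg.Agent.TypeM.OuterMcL

universe u

/-- a permutation of eight points of order 15 commutes only with even permutations -/
theorem sign_of_comm {ρ σ : Perm (Fin 8)} (ho : orderOf ρ = 15) (hc : σ * ρ = ρ * σ) : Perm.sign σ = 1 := by
  classical
  have hlcm : ρ.cycleType.lcm = 15 := by rw [Perm.lcm_cycleType, ho]
  have hsum : ρ.cycleType.sum ≤ 8 := by
    have := Perm.sum_cycleType_le ρ
    rwa [Fintype.card_fin] at this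
  have hmem : ∀ m ∈ ρ.cycleType, m = 3 ∨ m = 5 := by
    intro m hm
    have h1 : m ∣ 15 := by rw [← hlcm]; exact Multiset.dvd_lcm hm
    have h2 : m ≤ 8 := (Multiset.single_le_sum (fun _ _ => Nat.zero_le _) m hm).trans hsum
    have h3 := Perm.two_le_of_mem_cycleType hm
    interval_cases m <;> revert h1 <;> decide
  have h3 : 3 ∈ ρ.cycleType := by
    by_contra h
    have h1 : ρ.cycleType.lcm ∣ 5 := Multiset.lcm_dvd.2 fun m hm => by
      rcases hmem m hm with rfl | rfl
      · exact absurd hm h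
      · exact dvd_rfl
    rw [hlcm] at h1
    exact absurd h1 (by decide)
  have h5 : 5 ∈ ρ.cycleType := by
    by_contra h
    have h1 : ρ.cycleType.lcm ∣ 3 := Multiset.lcm_dvd.2 fun m hm => by
      rcases hmem m hm with rfl | rfl
      · exact dvd_rfl
      · exact absurd hm h
    rw [hlcm] at h1
    exact absurd h1 (by decide)
  have hct : ρ.cycleType = {5, 3} := by
    obtain ⟨s, hs⟩ := Multiset.exists_cons_of_mem h5
    have h3s : 3 ∈ s := by
      rw [hs, Multiset.mem_cons] at h3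
      rcases h3 with h | h
      · exact absurd h (by decide)
      · exact h
    obtain ⟨r, hr⟩ := Multiset.exists_cons_of_mem h3s
    have hr0 : r = 0 := by
      rw [Multiset.eq_zero_iff_forall_notMem]
      intro m hm
      have h1 := hmem m (by rw [hs, hr]; simp [hm])
      have h2 := Multiset.single_le_sum (fun _ _ => Nat.zero_le _) m hm
      rw [hs, hr, Multiset.sum_cons, Multiset.sum_cons] at hsum
      omega
    rw [hs, hr, hr0]
    rfl
  have hcard : Nat.card (centralizer ({ρ} : Set (Perm (Fin 8)))) = 15 := by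
    rw [Perm.nat_card_centralizer, hct]
    decide
  have h15 : σ ^ 15 = 1 := by
    have h1 : orderOf (⟨σ, mem_centralizer_singleton_iff.2 hc⟩ : centralizer ({ρ} : Set (Perm (Fin 8)))) ∣ 15 := by
      rw [← hcard]; exact orderOf_dvd_natCard _
    rw [Subgroup.orderOf_mk] at h1
    exact orderOf_dvd_iff_pow_eq_one.1 h1
  rcases Int.units_eq_one_or (Perm.sign σ) with h | h
  · exact h
  · have h2 := congrArg Perm.sign h15
    rw [map_pow, h, map_one] at h2
    exact absurd h2 (by decide)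

section

variable {M : Type*} [Group M]

/-- an automorphism which fixes an involution `t` and an element of order 15 of `C(t)` is inner -/
theorem inner_of_fix15 [Finite M] (L : MT 8 M) (hcard : Nat.card M = 898128000) {t v : M} (ht : t * t = 1) (ht1 : t ≠ 1)
    (hv : orderOf v = 15) (hc : v * t = t * v) {α : MulAut M} (hαt : α t = t) (hαv : α v = v) :
    α ∈ (MulAut.conj : M →* MulAut M).range := by
  obtain ⟨L', rfl⟩ := L.exists_rebase ht ht1
  obtain ⟨σ, hσ⟩ := Cfsg.Agent.TypeM.OutLyFin.exPerm L' (by norm_num) α hαt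
  refine Cfsg.Agent.TypeM.OutLyFin.evenInner L' (Or.inl rfl) (Or.inl ⟨rfl, hcard⟩) α σ hαt hσ ?_
  have hvm : v ∈ centralizer ({L'.t} : Set M) := mem_centralizer_singleton_iff.2 hc
  have h1 : L'.K.π ⟨v, hvm⟩ = σ * L'.K.π ⟨v, hvm⟩ * σ⁻¹ := hσ ⟨v, hvm⟩ ⟨v, hvm⟩ hαv.symm
  rw [eq_mul_inv_iff_mul_eq] at h1
  refine sign_of_comm (ρ := L'.K.π ⟨v, hvm⟩) ?_ h1.symm
  have hv' : orderOf (⟨v, hvm⟩ : centralizer ({L'.t} : Set M)) = 15 := by rw [Subgroup.orderOf_mk, hv]
  have h2 : orderOf (L'.K.π ⟨v, hvm⟩) ∣ 15 := by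
    rw [← hv']; exact orderOf_map_dvd _ _
  have h3 : 15 ∣ orderOf (L'.K.π ⟨v, hvm⟩) := by
    have h4 : L'.K.π (⟨v, hvm⟩ ^ orderOf (L'.K.π ⟨v, hvm⟩)) = 1 := by rw [map_pow, pow_orderOf_eq_one]
    have h5 : (⟨v, hvm⟩ ^ orderOf (L'.K.π ⟨v, hvm⟩) : centralizer ({L'.t} : Set M)) ^ 2 = 1 := by
      rcases (L'.K.ker _).1 h4 with h | h
      · rw [h, one_pow]
      · rw [h, pow_two, L'.K.z_mul_z]
    rw [← pow_mul] at h5
    have h6 := orderOf_dvd_of_pow_eq_one h5
    rw [hv'] at h6
    exact Nat.Coprime.dvd_of_dvd_mul_right (by decide) h6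
  exact Nat.dvd_antisymm h2 h3

/-- the elements of order prime to five which centralise `P` are trivial -/
theorem cent_five [Finite M] (L : MT 8 M) (P : Sylow 5 M) (hP : 125 ≤ Nat.card P) {a : M}
    (ha : a ∈ (P : Subgroup M)) (hCa : Nat.card (centralizer ({a} : Set M)) ∣ 50) {g : M}
    (hg : g ∈ centralizer ((P : Subgroup M) : Set M)) : g ^ 25 = 1 := by
  have h1 : g ∈ centralizer ({a} : Set M) :=
    mem_centralizer_singleton_iff.2 (mem_centralizer_iff.1 hg a ha).symm
  have h2 : orderOf g ∣ 50 := by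
    have h3 := orderOf_dvd_natCard (⟨g, h1⟩ : centralizer ({a} : Set M))
    rw [Subgroup.orderOf_mk] at h3
    exact h3.trans hCa
  by_contra hne
  have h4 : g ^ 25 * g ^ 25 = 1 := by
    rw [← pow_add]; exact orderOf_dvd_iff_pow_eq_one.1 h2
  obtain ⟨L', hL'⟩ := L.exists_rebase h4 hne
  have h5 := Cfsg.Agent.TypeM.FactsAut.card_centralizer L' (by norm_num)
  have h6 : (P : Subgroup M) ≤ centralizer ({L'.t} : Set M) := by
    intro x hx
    rw [mem_centralizer_singleton_iff, hL']
    have h7 : Commute x g := mem_centralizer_iff.1 hg x hx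
    exact (h7.pow_right 25).eq
  have h7 := Subgroup.card_dvd_of_le h6
  rw [h5] at h7
  obtain ⟨n, hn⟩ := (IsPGroup.iff_card (p := 5)).1 P.isPGroup'
  have h8 : 3 ≤ n := by
    by_contra hcon
    have : n ≤ 2 := by omega
    have h9 : 5 ^ n ≤ 5 ^ 2 := Nat.pow_le_pow_right (by norm_num) this
    have h10 : Nat.card P = 5 ^ n := hn
    omega
  have h9 : 5 ^ 3 ∣ Nat.factorial 8 := (pow_dvd_pow 5 h8).trans (by rw [← hn]; exact h7)
  exact absurd h9 (by decide)

/-- **An automorphism of order prime to five of a group of type `McL` which fixes a Sylow 5-subgroup pointwise is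
trivial.** -/
theorem eq_one_of_fix [Finite M] (L : MT 8 M) (hcard : Nat.card M = 898128000) (P : Sylow 5 M)
    (hP : 125 ≤ Nat.card P) {a c s : M} (ha : a ∈ (P : Subgroup M)) (hCa : Nat.card (centralizer ({a} : Set M)) ∣ 50)
    (hcP : c ∈ (P : Subgroup M)) (hc5 : orderOf c = 5) (hs6 : s ^ 6 = 1) (hs3 : s ^ 3 ≠ 1) (hs2 : s ^ 2 ≠ 1)
    (hsc : s * c = c * s) (hsP : ∀ x ∈ (P : Subgroup M), s * x * s⁻¹ ∈ (P : Subgroup M)) {α : MulAut M}
    (hα : ∀ x ∈ (P : Subgroup M), α x = x) {k : ℕ} (hk : ¬ 5 ∣ k) (hαk : α ^ k = 1) : α = 1 := by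
  have hp5 : Fact (Nat.Prime 5) := ⟨Nat.prime_five⟩
  -- inner automorphisms
  have key : ∀ β : MulAut M, (∀ x ∈ (P : Subgroup M), β x = x) → β ^ k = 1 →
      β ∈ (MulAut.conj : M →* MulAut M).range → β = 1 := by
    rintro β hβ hβk ⟨g, rfl⟩
    have h1 : g ∈ centralizer ((P : Subgroup M) : Set M) := by
      rw [mem_centralizer_iff]
      intro x hx
      have h2 := hβ x hx
      rw [MulAut.conj_apply, mul_inv_eq_iff_eq_mul] at h2
      exact h2.symm
    have h2 := cent_five L P hP ha hCa h1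
    have h3 : (MulAut.conj g : MulAut M) ^ 25 = 1 := by rw [← map_pow, h2, map_one]
    have h4 : orderOf (MulAut.conj g : MulAut M) ∣ Nat.gcd k 25 :=
      Nat.dvd_gcd (orderOf_dvd_of_pow_eq_one hβk) (orderOf_dvd_of_pow_eq_one h3)
    have h5 : Nat.gcd k 25 = 1 := by
      have : Nat.Coprime k (5 ^ 2) := Nat.Coprime.pow_right 2 ((Nat.prime_five.coprime_iff_not_dvd.2 hk).symm)
      exact this
    rw [h5, Nat.dvd_one, orderOf_eq_one_iff] at h4
    exact h4
  by_cases hin : α ∈ (MulAut.conj : M →* MulAut M).range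
  · exact key α hα hαk hin
  exfalso
  apply hin
  -- `α ^ 2 = 1`
  have h2 : α * α = 1 := by
    refine key (α * α) (fun x hx => ?_) ?_ ?_
    · rw [MulAut.mul_apply, hα x hx, hα x hx]
    · rw [← pow_two, ← pow_mul, mul_comm, pow_mul, hαk, one_pow]
    · exact inner_mul L (Cfsg.Agent.TypeM.OutLyFin.exPerm L (by norm_num))
        (Cfsg.Agent.TypeM.OutLyFin.evenInner L (Or.inl rfl) (Or.inl ⟨rfl, hcard⟩)) hin hin
  -- `α` fixes `s`
  have hw : s⁻¹ * α s ∈ centralizer ((P : Subgroup M) : Set M) := by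
    rw [mem_centralizer_iff]
    intro x hx
    have h3 := hα _ (hsP x hx)
    rw [map_mul, map_mul, map_inv, hα x hx] at h3
    calc x * (s⁻¹ * α s) = s⁻¹ * (s * x * s⁻¹) * α s := by group
      _ = s⁻¹ * (α s * x * (α s)⁻¹) * α s := by rw [h3]
      _ = s⁻¹ * α s * x := by group
  have hw25 := cent_five L P hP ha hCa hw
  have hwP : s⁻¹ * α s ∈ (P : Subgroup M) := by
    have h3 : IsPGroup 5 (zpowers (s⁻¹ * α s)) := by
      refine IsPGroup.of_card (n := (Nat.factorization (Nat.card (zpowers (s⁻¹ * α s))) 5)) ?_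
      have h4 : Nat.card (zpowers (s⁻¹ * α s)) ∣ 5 ^ 2 := by
        rw [Nat.card_zpowers]; exact orderOf_dvd_of_pow_eq_one hw25
      obtain ⟨m, -, hm⟩ := (Nat.dvd_prime_pow Nat.prime_five).1 h4
      rw [hm, Nat.Prime.factorization_pow Nat.prime_five, Finsupp.single_eq_same]
    have h4 := h3.inf_normalizer_sylow P
    have h5 : s⁻¹ * α s ∈ zpowers (s⁻¹ * α s) ⊓ normalizer (P : Set M) :=
      ⟨mem_zpowers _, Subgroup.centralizer_le_normalizer _ hw⟩
    rw [h4] at h5
    exact h5.2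
  have hs : α s = s := by
    have h3 := hα _ hwP
    rw [map_mul, map_inv, ← MulAut.mul_apply, h2, MulAut.one_apply] at h3
    have h4 : (s⁻¹ * α s) * (s⁻¹ * α s) = 1 := by
      nth_rewrite 1 [← h3]
      group
    have h5 : s⁻¹ * α s = 1 := by
      have h6 : orderOf (s⁻¹ * α s) ∣ Nat.gcd 2 25 :=
        Nat.dvd_gcd (orderOf_dvd_of_pow_eq_one (by rw [pow_two, h4])) (orderOf_dvd_of_pow_eq_one hw25)
      have h7 : Nat.gcd 2 25 = 1 := by decide
      rw [h7, Nat.dvd_one, orderOf_eq_one_iff] at h6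
      exact h6
    rw [inv_mul_eq_one] at h5
    exact h5.symm
  have hs2' : orderOf (s ^ 2) = 3 := orderOf_eq_prime (by rw [← pow_mul]; exact hs6) hs2
  have hcs : Commute c (s ^ 2) := (show Commute c s from hsc.symm).pow_right 2
  refine inner_of_fix15 L hcard (t := s ^ 3) (v := c * s ^ 2) ?_ hs3 ?_ ?_ ?_ ?_
  · rw [← pow_add]; exact hs6
  · rw [hcs.orderOf_mul_eq_mul_orderOf_of_coprime (by rw [hc5, hs2']; decide), hc5, hs2']
  · have h3 : Commute c (s ^ 3) := (show Commute c s from hsc.symm).pow_right 3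
    have h4 : Commute (s ^ 2) (s ^ 3) := Commute.pow_pow_self s 2 3
    exact (h3.mul_left h4).eq
  · rw [map_pow, hs]
  · rw [map_mul, map_pow, hs, hα c hcP]

end

section model

open Cfsg.Agent.H686.Odd.McL Cfsg.Agent.McLType.X275 Cfsg.Agent.H58.McLOdd

theorem cS : (Cfsg.Agent.H58.McLOdd.chk (cj s6 x5) (pw x5 2 ++ (y5 ++ cm x5 y5)) &&
    Cfsg.Agent.H58.McLOdd.chk (cj s6 y5) (pw x5 2 ++ pw y5 4)) = true := by
  decide +kernel

theorem sa : s * a * s⁻¹ = a ^ 2 * (b * c) := by
  have h := cS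
  simp only [Bool.and_eq_true] at h
  have h1 := eq_of_chk h.1
  rw [wd_cj, wd_app, wd_app, wd_pw, ← c_eq] at h1
  exact h1

theorem sb : s * b * s⁻¹ = a ^ 2 * b ^ 4 := by
  have h := cS
  simp only [Bool.and_eq_true] at h
  have h1 := eq_of_chk h.2
  rw [wd_cj, wd_app, wd_pw, wd_pw] at h1
  exact h1

theorem mem_a : a ∈ (closure {a, b} : Subgroup G1) := subset_closure (by simp)
theorem mem_b : b ∈ (closure {a, b} : Subgroup G1) := subset_closure (by simp)
theorem mem_c : c ∈ (closure {a, b} : Subgroup G1) := by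
  rw [c, commutatorElement_def]
  exact mul_mem (mul_mem (mul_mem mem_a mem_b) (inv_mem mem_a)) (inv_mem mem_b)

theorem s_norm : ∀ x ∈ (closure {a, b} : Subgroup G1), s * x * s⁻¹ ∈ (closure {a, b} : Subgroup G1) := by
  have h : (closure {a, b} : Subgroup G1) ≤ (closure {a, b} : Subgroup G1).comap (MulAut.conj s).toMonoidHom := by
    rw [closure_le]
    rintro x (rfl | rfl)
    · show s * a * s⁻¹ ∈ (closure {a, b} : Subgroup G1)
      rw [sa]
      exact mul_mem (pow_mem mem_a 2) (mul_mem mem_b mem_c)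
    · show s * b * s⁻¹ ∈ (closure {a, b} : Subgroup G1)
      rw [sb]
      exact mul_mem (pow_mem mem_a 2) (pow_mem mem_b 4)
  exact fun x hx => h hx

theorem a_ne : a ≠ 1 := by
  intro h
  apply c_ne
  rw [c, h, commutatorElement_def]
  simp

theorem order_a : orderOf a = 5 := by
  have : Fact (Nat.Prime 5) := ⟨Nat.prime_five⟩
  exact orderOf_eq_prime a_pow a_ne

theorem card_cent_a : Nat.card (centralizer ({a} : Set G1)) ∣ 50 := by
  have hp : Fact (Nat.Prime 5) := ⟨Nat.prime_five⟩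
  have hle : Nat.card (centralizer ({a} : Set G1)) ≤ 50 := by
    obtain ⟨l, hl⟩ := fix_abc (i := 1) (j := 0) (k := 0) (by rintro ⟨h, -⟩; revert h; decide)
    rw [zpow_one, zpow_zero, zpow_zero, mul_one, mul_one] at hl
    exact type_b order_a hl
  have h25 : 25 ∣ Nat.card (centralizer ({a} : Set G1)) := by
    have hdis : Disjoint (zpowers a) (zpowers c) := by
      rw [Subgroup.disjoint_def]
      intro x hxa hxc
      by_contra hx
      have h1 : a ∈ zpowers x := mem_zpowers_of_prime Nat.prime_five order_a hx hxa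
      have h2 : x * b = b * x := by
        obtain ⟨k, rfl⟩ := mem_zpowers_iff.1 hxc
        exact ((show Commute c b from cb).zpow_left k).eq
      have h3 : a * b = b * a := by
        obtain ⟨k, hk⟩ := mem_zpowers_iff.1 h1
        rw [← hk]
        exact ((show Commute x b from h2).zpow_left k).eq
      apply c_ne
      rw [c, commutatorElement_def, h3]
      group
    have hcomm : ∀ (m : zpowers a) (n : zpowers c), Commute ((zpowers a).subtype m) ((zpowers c).subtype n) := by
      rintro ⟨m, hm⟩ ⟨n, hn⟩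
      obtain ⟨i, rfl⟩ := mem_zpowers_iff.1 hm
      obtain ⟨j, rfl⟩ := mem_zpowers_iff.1 hn
      exact ((show Commute a c from ca.symm).zpow_zpow i j)
    let f : zpowers a × zpowers c →* G1 := MonoidHom.noncommCoprod _ _ hcomm
    have hf : Function.Injective f := Subgroup.mul_injective_of_disjoint hdis
    have hle2 : f.range ≤ centralizer ({a} : Set G1) := by
      rintro _ ⟨⟨⟨m, hm⟩, ⟨n, hn⟩⟩, rfl⟩
      obtain ⟨i, rfl⟩ := mem_zpowers_iff.1 hm
      obtain ⟨j, rfl⟩ := mem_zpowers_iff.1 hn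
      rw [mem_centralizer_singleton_iff]
      show a ^ i * c ^ j * a = a * (a ^ i * c ^ j)
      have e1 : Commute (a ^ i) a := (Commute.refl a).zpow_left i
      have e2 : Commute (c ^ j) a := (show Commute c a from ca).zpow_left j
      exact (e1.mul_left e2).eq
    have h1 := Subgroup.card_dvd_of_le hle2
    rw [Nat.card_congr (MonoidHom.ofInjective hf).toEquiv.symm, Nat.card_prod, Nat.card_zpowers, Nat.card_zpowers,
      order_a, order_c] at h1
    exact h1
  obtain ⟨k, hk⟩ := h25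
  have hpos : 0 < Nat.card (centralizer ({a} : Set G1)) := Nat.card_pos
  have hk2 : k ≤ 2 := by omega
  have hk0 : k ≠ 0 := by rintro rfl; omega
  rw [hk]
  interval_cases k
  · exact absurd rfl hk0
  · exact ⟨2, rfl⟩
  · exact ⟨1, rfl⟩

/-- **the automorphisms of the model** -/
theorem model {α : MulAut G1} (hα : ∀ x ∈ (closure {a, b} : Subgroup G1), α x = x) {k : ℕ} (hk : ¬ 5 ∣ k)
    (hαk : α ^ k = 1) : α = 1 := by
  have hp : Fact (Nat.Prime 5) := ⟨Nat.prime_five⟩
  obtain ⟨-, -, hcard, ⟨L⟩⟩ := Cfsg.Agent.TypeM.FactsMcL.facts isoMcL_G1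
  have h125 : (898128000 : ℕ).factorization 5 = 3 := by
    rw [show (898128000 : ℕ) = 5 ^ 3 * 7185024 by norm_num, Nat.factorization_mul (by norm_num) (by norm_num),
      Nat.Prime.factorization_pow Nat.prime_five]
    simp [Nat.factorization_eq_zero_of_not_dvd]
  let P : Sylow 5 G1 := Sylow.ofCard (closure {a, b}) (by rw [card_ab, card_G1, h125]; norm_num)
  have hP : Nat.card P = 125 := card_ab
  exact eq_one_of_fix L hcard P (by rw [hP]) mem_a card_cent_a mem_c order_c s_pow s3_ne s2_ne sc s_norm hα hk hαk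

end model

/-- the centralizer of a Sylow 5-subgroup of `McL`, `McL.2` -/
theorem cent_trivial {H : Type u} [Group H] [Finite H] {S : Subgroup H} (hn : S.Normal)
    (hcent : centralizer (S : Set H) = ⊥) (h : Cfsg.Spor.IsoMcL S) (R : Sylow 5 H) (hR : (R : Subgroup H) ≤ S) (x : H)
    (hx : x ∈ centralizer ((R : Subgroup H) : Set H)) (h5 : ¬ 5 ∣ orderOf x) : x = 1 := by
  have hp : Fact (Nat.Prime 5) := ⟨Nat.prime_five⟩
  obtain ⟨e1⟩ := h
  obtain ⟨e2⟩ := Cfsg.Agent.McLType.X275.isoMcL_G1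
  let e0 : S ≃* Cfsg.Agent.McLType.X275.G1 := e1.trans e2.symm
  have h125 : (898128000 : ℕ).factorization 5 = 3 := by
    rw [show (898128000 : ℕ) = 5 ^ 3 * 7185024 by norm_num, Nat.factorization_mul (by norm_num) (by norm_num),
      Nat.Prime.factorization_pow Nat.prime_five]
    simp [Nat.factorization_eq_zero_of_not_dvd]
  let P : Sylow 5 Cfsg.Agent.McLType.X275.G1 := Sylow.ofCard
    (closure {Cfsg.Agent.H686.Odd.McL.a, Cfsg.Agent.H686.Odd.McL.b}) (by
      rw [Cfsg.Agent.H686.Odd.McL.card_ab, Cfsg.Agent.McLType.X275.card_G1, h125]; norm_num)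
  let Q : Sylow 5 Cfsg.Agent.McLType.X275.G1 := (R.subtype hR).mapSurjective (f := e0.toMonoidHom) e0.surjective
  obtain ⟨g, hg⟩ := MulAction.exists_smul_eq Cfsg.Agent.McLType.X275.G1 Q P
  let e : S ≃* Cfsg.Agent.McLType.X275.G1 := e0.trans (MulAut.conj g)
  have he : ∀ y ∈ (closure {Cfsg.Agent.H686.Odd.McL.a, Cfsg.Agent.H686.Odd.McL.b} :
      Subgroup Cfsg.Agent.McLType.X275.G1), ((e.symm y : S) : H) ∈ (R : Subgroup H) := by
    intro y hy
    have h1 : y ∈ ((g • Q : Sylow 5 Cfsg.Agent.McLType.X275.G1) : Subgroup Cfsg.Agent.McLType.X275.G1) := by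
      rw [hg]; exact hy
    rw [Sylow.coe_subgroup_smul, Subgroup.mem_smul_pointwise_iff_exists] at h1
    obtain ⟨z, hz, rfl⟩ := h1
    obtain ⟨w, hw, rfl⟩ := hz
    have h2 : e.symm (MulAut.conj g • e0.toMonoidHom w) = w := by
      rw [MulEquiv.symm_apply_eq]; rfl
    rw [h2]
    exact hw
  have := hn
  let φ : MulAut S := MulAut.conjNormal x
  let α : MulAut Cfsg.Agent.McLType.X275.G1 := (e.symm.trans φ).trans e
  have hαφ : ∀ k : ℕ, α ^ k = (e.symm.trans (φ ^ k)).trans e := by
    intro k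
    induction k with
    | zero =>
      ext y
      simp
    | succ k ih =>
      rw [pow_succ, pow_succ, ih]
      ext y
      simp [α]
  have hφk : φ ^ orderOf x = 1 := by
    rw [← map_pow, pow_orderOf_eq_one, map_one]
  have h1 : α = 1 := by
    refine model (k := orderOf x) ?_ h5 ?_
    · intro y hy
      have h2 : φ (e.symm y) = e.symm y := by
        apply Subtype.ext
        rw [MulAut.conjNormal_apply, mul_inv_eq_iff_eq_mul]
        exact (mem_centralizer_iff.1 hx _ (he y hy)).symm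
      show e (φ (e.symm y)) = y
      rw [h2, e.apply_symm_apply]
    · rw [hαφ, hφk]
      ext y
      simp
  have h2 : x ∈ centralizer (S : Set H) := by
    rw [mem_centralizer_iff]
    intro y hy
    have h3 := DFunLike.congr_fun h1 (e ⟨y, hy⟩)
    have h4 : e (φ (e.symm (e ⟨y, hy⟩))) = e ⟨y, hy⟩ := h3
    rw [e.symm_apply_apply] at h4
    have h5 := congrArg Subtype.val (e.injective h4)
    rw [MulAut.conjNormal_apply, mul_inv_eq_iff_eq_mul] at h5
    exact h5.symm
  rw [hcent, mem_bot] at h2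
  exact h2

/-- **The input `hC` of `H681.TI.rowMcL_of`.** -/
theorem hC (H : Type u) [Group H] [Finite H] (S : Subgroup H) (hA : Cfsg.Agent.H681.TI.Alm S)
    (h : Cfsg.Spor.IsoMcL S) (R : Sylow 5 H) (hR : (R : Subgroup H) ≤ S) (x : H)
    (hx : x ∈ centralizer ((R : Subgroup H) : Set H)) (h5 : ¬ 5 ∣ orderOf x) : x = 1 :=
  cent_trivial hA.normal hA.cent h R hR x hx h5

end Cfsg.Agent.H476.TI.McLCent
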