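import Cfsg.Agent.H327.TI.Quot
import Cfsg.Agent.H394.SqTI

/-!
# S4819, T1: counting Sylow subgroups of groups with TI Sylow `p`-subgroups (helper476)
-/

set_option autoImplicit false

namespace Cfsg.Agent.H476.TI

open Subgroup Cfsg
open Cfsg.Agent.H666.TI

variable {G : Type*} [Group G] [Finite G] {p : ℕ} [hp : Fact p.Prime]

omit [Finite G] hp in
theorem inf_eq_bot (h : IsTI p G) (P Q : Sylow p G) (hPQ : P ≠ Q) : (P : Subgroup G) ⊓ Q = ⊥ := by
  rw [eq_bot_iff]
  intro x hx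
  rw [mem_bot]
  by_contra hx1
  exact hPQ (h.sylow_eq (x := x) hx.1 hx.2 hx1)

/-- `|P|` divides `|Syl_p(G)| - 1` -/
theorem card_dvd (h : IsTI p G) (P : Sylow p G) : Nat.card (P : Subgroup G) ∣ Nat.card (Sylow p G) - 1 := by
  have h1 := H394.SqTI.card_orbit_sub (inf_eq_bot h) P (⊤ : Subgroup G)
  rw [top_inf_eq] at h1
  have h2 : Nat.card (MulAction.orbit (⊤ : Subgroup G) P) = Nat.card (Sylow p G) := by
    have h3 : MulAction.orbit (⊤ : Subgroup G) P = Set.univ := by
      rw [Set.eq_univ_iff_forall]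
      intro R
      obtain ⟨g, hg⟩ := MulAction.exists_smul_eq G P R
      exact ⟨⟨g, mem_top g⟩, hg⟩
    rw [h3]
    exact Nat.card_congr (Equiv.Set.univ _)
  rwa [h2] at h1

/-- a nontrivial `p`-subgroup lies in a unique Sylow subgroup -/
theorem inf_ne_bot (L : Subgroup G) [L.Normal] (hL : p ∣ Nat.card L) (P : Sylow p G) : (P : Subgroup G) ⊓ L ≠ ⊥ := by
  obtain ⟨x, hx⟩ := exists_prime_orderOf_dvd_card' p hL
  have hxo : orderOf (x : G) = p := by rw [Subgroup.orderOf_coe, hx]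
  obtain ⟨Q, hQ⟩ := exists_sylow_mem (pElt_of_orderOf hxo)
  obtain ⟨g, hg⟩ := MulAction.exists_smul_eq G Q P
  intro hbot
  have h1 : g * x * g⁻¹ ∈ (P : Subgroup G) ⊓ L := by
    refine ⟨?_, (inferInstance : L.Normal).conj_mem _ x.2 g⟩
    have h2 : g * x * g⁻¹ ∈ ((g • Q : Sylow p G) : Subgroup G) := Subgroup.mem_map.2 ⟨x, hQ, rfl⟩
    rw [hg] at h2
    exact h2
  rw [hbot, mem_bot, conj_eq_one_iff] at h1
  rw [h1, orderOf_one] at hxo
  exact hp.out.one_lt.ne hxo

omit [Finite G] hp in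
/-- the Sylow subgroups of `L` are intersections with `L` -/
theorem exists_sylow_map (L : Subgroup G) (R : Sylow p L) :
    ∃ P : Sylow p G, (R : Subgroup L).map L.subtype ≤ P ∧ (R : Subgroup L) = (P : Subgroup G).subgroupOf L := by
  obtain ⟨P, hP⟩ := (R.isPGroup'.map L.subtype).exists_le_sylow
  refine ⟨P, hP, ?_⟩
  have h1 : IsPGroup p ↥((P : Subgroup G).subgroupOf L) :=
    P.isPGroup'.comap_of_injective L.subtype L.subtype_injective
  refine (R.is_maximal' h1 ?_).symm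
  intro x hx
  rw [mem_subgroupOf]
  exact hP (mem_map_of_mem _ hx)

/-- `P ⊓ L` is a Sylow subgroup of `L` -/
theorem exists_sylow_inf (h : IsTI p G) (L : Subgroup G) [L.Normal] (hL : p ∣ Nat.card L) (P : Sylow p G) :
    ∃ R : Sylow p L, (R : Subgroup L) = (P : Subgroup G).subgroupOf L := by
  have h1 : IsPGroup p ↥((P : Subgroup G).subgroupOf L) :=
    P.isPGroup'.comap_of_injective L.subtype L.subtype_injective
  obtain ⟨R, hPR⟩ := h1.exists_le_sylow
  obtain ⟨Q, hQ1, hQ2⟩ := exists_sylow_map L R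
  refine ⟨R, ?_⟩
  have h2 := inf_ne_bot L hL P
  obtain ⟨x, hx⟩ := Subgroup.ne_bot_iff_exists_ne_one.1 h2
  have h3 : Q = P := by
    refine h.sylow_eq (x := (x : G)) ?_ x.2.1 (fun h3 => hx (Subtype.ext h3))
    have h3 : (⟨x, x.2.2⟩ : L) ∈ (R : Subgroup L) := hPR (mem_subgroupOf.2 x.2.1)
    exact hQ1 (mem_map_of_mem _ h3)
  rw [hQ2, h3]

/-- `|Syl_p(G)| = |Syl_p(L)|` for a normal subgroup `L` of order divisible by `p` -/
theorem card_sylow_normal (h : IsTI p G) (L : Subgroup G) [L.Normal] (hL : p ∣ Nat.card L) :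
    Nat.card (Sylow p L) = Nat.card (Sylow p G) := by
  choose f hf using exists_sylow_map (p := p) L
  refine Nat.card_congr (Equiv.ofBijective f ⟨?_, ?_⟩)
  · intro R R' hRR
    apply Sylow.ext
    rw [(hf R).2, (hf R').2, hRR]
  · intro P
    obtain ⟨R, hR⟩ := exists_sylow_inf h L hL P
    refine ⟨R, ?_⟩
    have h2 := inf_ne_bot L hL P
    obtain ⟨x, hx⟩ := Subgroup.ne_bot_iff_exists_ne_one.1 h2
    refine h.sylow_eq (x := (x : G)) ?_ x.2.1 (fun h3 => hx (Subtype.ext h3))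
    have h3 : (⟨x, x.2.2⟩ : L) ∈ (R : Subgroup L) := by
      rw [hR]
      exact mem_subgroupOf.2 x.2.1
    exact (hf R).1 (mem_map_of_mem _ h3)

/-- `|Syl_p(G / N)| = |Syl_p(G)|` -/
theorem card_sylow_quot {N : Subgroup G} [N.Normal] (hN : ¬ p ∣ Nat.card N)
    (hc : ∀ x : G, PElt p x → ∀ n ∈ N, x * n = n * x) : Nat.card (Sylow p (G ⧸ N)) = Nat.card (Sylow p G) := by
  refine (Nat.card_congr (Equiv.ofBijective
    (Sylow.mapSurjective (p := p) (QuotientGroup.mk'_surjective N)) ⟨?_, ?_⟩)).symm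
  · intro P Q hPQ
    have h1 : (P : Subgroup G).map (QuotientGroup.mk' N) = (Q : Subgroup G).map (QuotientGroup.mk' N) :=
      congrArg (fun S : Sylow p (G ⧸ N) => (S : Subgroup (G ⧸ N))) hPQ
    apply Sylow.ext
    apply le_antisymm
    · intro x hx
      refine H327.TI.mem_of_mk_mem hN hc (pElt_of_mem P.isPGroup' hx) ?_
      rw [← h1]
      exact mem_map_of_mem _ hx
    · intro x hx
      refine H327.TI.mem_of_mk_mem hN hc (pElt_of_mem Q.isPGroup' hx) ?_
      rw [h1]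
      exact mem_map_of_mem _ hx
  · exact Sylow.mapSurjective_surjective (QuotientGroup.mk'_surjective N) p

omit [Finite G] in
/-- `|PN / N| = |P|` -/
theorem card_map {N : Subgroup G} [N.Normal] (hN : ¬ p ∣ Nat.card N)
    (hc : ∀ x : G, PElt p x → ∀ n ∈ N, x * n = n * x) (P : Sylow p G) :
    Nat.card ((P : Subgroup G).map (QuotientGroup.mk' N)) = Nat.card (P : Subgroup G) := by
  refine (Nat.card_congr (Equiv.ofBijective (fun x : (P : Subgroup G) =>
    (⟨QuotientGroup.mk' N x, mem_map_of_mem _ x.2⟩ : ↥((P : Subgroup G).map (QuotientGroup.mk' N)))) ⟨?_, ?_⟩)).symm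
  · intro x y hxy
    apply Subtype.ext
    exact H327.TI.eq_of_mk_eq hN hc (pElt_of_mem P.isPGroup' x.2) (pElt_of_mem P.isPGroup' y.2)
      (congrArg Subtype.val hxy)
  · rintro ⟨_, x, hx, rfl⟩
    exact ⟨⟨x, hx⟩, rfl⟩

/-- **the rank one criterion** -/
theorem card_sylow_of (h : IsTI p G) (L : Subgroup G) [L.Normal] (hL : p ∣ Nat.card L)
    (h1 : ∀ R : Sylow p L, Nat.card (Sylow p L) = 1 + Nat.card (R : Subgroup L)) (P : Sylow p G) :
    Nat.card (Sylow p G) = 1 + Nat.card (P : Subgroup G) := by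
  obtain ⟨R, hR⟩ := exists_sylow_inf h L hL P
  have h2 := card_dvd h P
  rw [← card_sylow_normal h L hL, h1 R, Nat.add_sub_cancel_left] at h2
  have h3 : Nat.card (R : Subgroup L) ∣ Nat.card (P : Subgroup G) := by
    rw [hR]
    have h4 : Nat.card ↥((P : Subgroup G).subgroupOf L) = Nat.card ↥((P : Subgroup G) ⊓ L) := by
      rw [← Subgroup.subgroupOf_map_subtype]
      exact (Nat.card_congr (((P : Subgroup G).subgroupOf L).equivMapOfInjective L.subtype L.subtype_injective).toEquiv)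
    rw [h4]
    exact card_dvd_of_le inf_le_left
  rw [← card_sylow_normal h L hL, h1 R, Nat.dvd_antisymm h2 h3]

/-! ### orders -/

omit [Finite G] in
/-- the order of a Sylow subgroup -/
theorem card_sylow_pow [Finite G] {k m : ℕ} (h : Nat.card G = p ^ k * m) (hm : ¬ p ∣ m) (R : Sylow p G) :
    Nat.card (R : Subgroup G) = p ^ k := by
  have hm0 : m ≠ 0 := by
    rintro rfl
    exact hm (dvd_zero p)
  rw [R.card_eq_multiplicity, h, Nat.factorization_mul (pow_ne_zero _ hp.out.ne_zero) hm0, Finsupp.add_apply,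
    Nat.Prime.factorization_pow hp.out, Finsupp.single_eq_same, Nat.factorization_eq_zero_of_not_dvd hm, add_zero]

/-- the order fits with rank one: `g |L| = Q (Q + 1) (g h)` with `h < Q` prime to `p` -/
def Fit (p : ℕ) (L : Type*) : Prop :=
  ∃ k h g : ℕ, 1 ≤ k ∧ 0 < g ∧ g * Nat.card L = p ^ k * ((p ^ k + 1) * (g * h)) ∧ h < p ^ k ∧ ¬ p ∣ h

theorem Fit.card_sylow {L : Type*} [Group L] [Finite L] [IsSimpleGroup L] (hTI : IsTI p L) (hf : Fit p L)
    (R : Sylow p L) : Nat.card (Sylow p L) = 1 + Nat.card (R : Subgroup L) := by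
  obtain ⟨k, h, g, hk, hg, hc, hlt, hh⟩ := hf
  have hc' : Nat.card L = p ^ k * ((p ^ k + 1) * h) := by
    apply Nat.eq_of_mul_eq_mul_left hg
    rw [hc]
    ring
  have hnd : ¬ p ∣ (p ^ k + 1) * h := by
    intro hd
    rcases hp.out.dvd_mul.1 hd with h1 | h1
    · have h2 : p ∣ 1 := (Nat.dvd_add_right (dvd_pow_self p (by omega))).1 h1
      exact hp.out.one_lt.ne' (Nat.dvd_one.1 h2)
    · exact hh h1
  have hR := card_sylow_pow hc' hnd R
  have key := H394.SqTI.card_sylow_eq (T := L) (p := p) (inf_eq_bot hTI) R (h := h)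
    (by rw [hR]; exact dvd_pow_self p (by omega)) (by rw [hR, hc']) (by rw [hR]; exact hlt)
  exact key

end Cfsg.Agent.H476.TI
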