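import Cfsg.Agent.H476.TI.Count
import Cfsg.Agent.H476.PU.Excl
import Cfsg.Agent.H723.TI.Defs
import Cfsg.Agent.H334.TI.SocleCore
import Cfsg.Agent.H666.Link
import Cfsg.Agent.S0280
import Cfsg.Agent.S1069
import Cfsg.Agent.StrongEmb.Strong
import Cfsg.Agent.H666.AltRow
import Cfsg.Agent.H469.RowAlt

/-!
# S4819, T1: reduction to rank one and to the exceptional rows (helper476)
-/

set_option autoImplicit false

namespace Cfsg.Agent.H476.TI

open Subgroup Cfsg
open Cfsg.Agent.H666.TI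
open scoped Pointwise

universe u

/-! ### the families of rank one -/

theorem Fit.congr {p : ℕ} {L M : Type*} (e : L ≃ M) (h : Fit p M) : Fit p L := by
  obtain ⟨k, h, g, h1, h2, h3, h4, h5⟩ := h
  exact ⟨k, h, g, h1, h2, by rw [Nat.card_congr e, h3], h4, h5⟩

theorem not_dvd_of_dvd {p k h g m : ℕ} (hp : p.Prime) (hk : 1 ≤ k) (hm : p ^ k - 1 = m * (g * h) ∨ p ^ k - 1 = g * h * m) :
    ¬ p ∣ h := by
  intro hd
  have h1 : 1 ≤ p ^ k := Nat.one_le_pow _ _ hp.pos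
  have h2 : p ∣ p ^ k - 1 := by
    rcases hm with hm | hm
    · rw [hm]
      exact (hd.mul_left g).mul_left m
    · rw [hm]
      exact (hd.mul_left g).mul_right m
  have h3 : p ∣ 1 := by
    have h4 := Nat.dvd_sub (dvd_pow_self p (by omega : k ≠ 0)) h2
    rwa [show p ^ k - (p ^ k - 1) = 1 by omega] at h4
  exact hp.one_lt.ne' (Nat.dvd_one.1 h3)

theorem fit_psl2 {p : ℕ} [hp : Fact p.Prime] {F : Type*} [Field F] [Fintype F] {n : ℕ} (hn : 1 ≤ n)
    (hF : Fintype.card F = p ^ n) : Fit p (Matrix.ProjectiveSpecialLinearGroup (Fin 2) F) := by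
  have h1 := Cfsg.Agent.ClassicalGeometry.PSL2Basic.card_PSL2_gcd (F := F)
  rw [hF] at h1
  have hq : 1 < p ^ n := Nat.one_lt_pow (by omega) hp.out.one_lt
  obtain ⟨h, hh⟩ := Nat.gcd_dvd_right 2 (p ^ n - 1)
  have hg : 0 < Nat.gcd 2 (p ^ n - 1) := Nat.gcd_pos_of_pos_left _ (by norm_num)
  refine ⟨n, h, Nat.gcd 2 (p ^ n - 1), hn, hg, ?_, ?_, ?_⟩
  · rw [mul_comm, h1, ← hh]
    congr 1
    have h2 : p ^ n ^ 2 = p ^ n ^ 2 := rfl
    obtain ⟨a, ha⟩ : ∃ a, p ^ n = a + 1 := ⟨p ^ n - 1, by omega⟩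
    rw [ha, Nat.add_sub_cancel]
    have h3 : (a + 1) ^ 2 - 1 = (a + 1 + 1) * a := by
      have : (a + 1) ^ 2 = (a + 1 + 1) * a + 1 := by ring
      omega
    exact h3
  · have h2 : h ≤ p ^ n - 1 := by
      rw [hh]
      exact Nat.le_mul_of_pos_left _ hg
    omega
  · exact not_dvd_of_dvd hp.out hn (m := 1) (Or.inl (by rw [one_mul]; exact hh))

theorem fit_psu3 {p : ℕ} [hp : Fact p.Prime] {F : Type*} [Field F] [Fintype F] {n : ℕ} (hn : 1 ≤ n)
    (hF : Fintype.card F = (p ^ n) ^ 2) : Fit p (PSU 3 F (p ^ n)) := by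
  have h1 := S0280.result hF 3 (by norm_num)
  rw [Finset.prod_range_succ, Finset.prod_range_succ, Finset.prod_range_one] at h1
  rw [if_pos (by decide), if_neg (by decide), if_pos (by decide)] at h1
  have hq : 1 < p ^ n := Nat.one_lt_pow (by omega) hp.out.one_lt
  norm_num at h1
  obtain ⟨h, hh⟩ := Nat.gcd_dvd_right 3 (p ^ n + 1)
  have hg : 0 < Nat.gcd 3 (p ^ n + 1) := Nat.gcd_pos_of_pos_left _ (by norm_num)
  refine ⟨3 * n, h * (p ^ n - 1), Nat.gcd 3 (p ^ n + 1), by omega, hg, ?_, ?_, ?_⟩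
  · have e1 : p ^ (3 * n) = (p ^ n) ^ 3 := by rw [← pow_mul, mul_comm]
    rw [e1]
    obtain ⟨g, hgd⟩ : ∃ g, Nat.gcd 3 (p ^ n + 1) = g := ⟨_, rfl⟩
    rw [hgd] at hh h1 ⊢
    obtain ⟨a, ha⟩ : ∃ a, p ^ n = a + 1 := ⟨p ^ n - 1, by omega⟩
    rw [ha] at hh h1 ⊢
    apply Nat.eq_of_mul_eq_mul_left (show 0 < a + 1 + 1 by omega)
    have h3 : (a + 1) ^ 2 - 1 = (a + 1 + 1) * a := by
      have : (a + 1) ^ 2 = (a + 1 + 1) * a + 1 := by ring
      omega
    rw [h3] at h1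
    have h4 : (a + 1 + 1) * (g * Nat.card (PSU 3 F (a + 1))) = g * ((a + 1 + 1) * Nat.card (PSU 3 F (a + 1))) := by ring
    rw [h4, h1, Nat.add_sub_cancel, ← mul_assoc g h, ← hh]
    ring
  · have h2 : h ≤ p ^ n + 1 := by
      rw [hh]
      exact Nat.le_mul_of_pos_left _ hg
    rw [mul_comm 3 n, pow_mul]
    obtain ⟨a, ha⟩ : ∃ a, p ^ n = a + 1 := ⟨p ^ n - 1, by omega⟩
    rw [ha] at h2 ⊢
    rw [Nat.add_sub_cancel]
    have h3 : 0 < a := by omega
    calc h * a ≤ (a + 1 + 1) * a := Nat.mul_le_mul_right _ h2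
      _ < (a + 1) ^ 3 := by nlinarith [pow_pos h3 3, pow_pos h3 2]
  · intro hd
    rcases hp.out.dvd_mul.1 hd with h2 | h2
    · have h3 : p ∣ p ^ n + 1 := by
        rw [hh]
        exact h2.mul_left _
      have h4 := (Nat.dvd_add_right (dvd_pow_self p (by omega : n ≠ 0))).1 h3
      exact hp.out.one_lt.ne' (Nat.dvd_one.1 h4)
    · exact not_dvd_of_dvd hp.out hn (p := p) (k := n) (h := p ^ n - 1) (g := 1) (m := 1)
        (Or.inl (by rw [one_mul, one_mul])) h2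

theorem fit_ree {K : Type*} [Field K] [Fintype K] {m : ℕ} (hK : Fintype.card K = 3 ^ (2 * m + 1)) :
    Fit 3 ↥(Cfsg.Lie.twistedG2 K (3 ^ m)) := by
  have h1 := S1069.result hK
  have hq : 3 ≤ 3 ^ (2 * m + 1) := by
    calc 3 = 3 ^ 1 := by norm_num
      _ ≤ 3 ^ (2 * m + 1) := Nat.pow_le_pow_right (by norm_num) (by omega)
  refine ⟨3 * (2 * m + 1), 3 ^ (2 * m + 1) - 1, 1, by omega, one_pos, ?_, ?_, ?_⟩
  · rw [h1, mul_comm 3 (2 * m + 1), pow_mul]
    ring
  · rw [mul_comm 3 (2 * m + 1), pow_mul]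
    calc 3 ^ (2 * m + 1) - 1 < 3 ^ (2 * m + 1) := by omega
      _ ≤ (3 ^ (2 * m + 1)) ^ 3 := Nat.le_self_pow (by norm_num) _
  · exact not_dvd_of_dvd Nat.prime_three (k := 2 * m + 1) (by omega) (g := 1) (m := 1)
      (Or.inl (by rw [one_mul, one_mul]))

theorem fit_sz {F : Type*} [Field F] [Fintype F] {m : ℕ} (hm : 1 ≤ m) (hF : Fintype.card F = 2 ^ (2 * m + 1)) :
    Fit 2 ↥(Cfsg.Lie.Sz F (2 ^ (m + 1))) := by
  have h1 := (S1163.result hm hF).1
  have hq : 2 ≤ 2 ^ (2 * m + 1) := by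
    calc 2 = 2 ^ 1 := by norm_num
      _ ≤ 2 ^ (2 * m + 1) := Nat.pow_le_pow_right (by norm_num) (by omega)
  refine ⟨2 * (2 * m + 1), 2 ^ (2 * m + 1) - 1, 1, by omega, one_pos, ?_, ?_, ?_⟩
  · rw [h1, mul_comm 2 (2 * m + 1), pow_mul]
    ring
  · rw [mul_comm 2 (2 * m + 1), pow_mul]
    calc 2 ^ (2 * m + 1) - 1 < 2 ^ (2 * m + 1) := by omega
      _ ≤ (2 ^ (2 * m + 1)) ^ 2 := Nat.le_self_pow (by norm_num) _
  · exact not_dvd_of_dvd Nat.prime_two (k := 2 * m + 1) (by omega) (g := 1) (m := 1)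
      (Or.inl (by rw [one_mul, one_mul]))

theorem fit_a6 : Fit 3 ↥(alternatingGroup (Fin 6)) := by
  refine ⟨2, 4, 1, by norm_num, one_pos, ?_, by norm_num, by norm_num⟩
  have h3 : 2 * Nat.card (alternatingGroup (Fin 6)) = Nat.card (Equiv.Perm (Fin 6)) := by
    rw [Nat.card_eq_fintype_card, Nat.card_eq_fintype_card]
    exact two_mul_card_alternatingGroup
  rw [Nat.card_eq_fintype_card (α := Equiv.Perm (Fin 6)), Fintype.card_perm, Fintype.card_fin] at h3
  have h4 : Nat.factorial 6 = 720 := rfl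
  omega

/-! ### automorphisms -/

/-- automorphisms of odd order are inner -/
def OddIn (L : Type*) [Group L] : Prop := ∀ α : MulAut L, Odd (orderOf α) → ∃ g : L, α = MulAut.conj g

theorem OddIn.congr {L M : Type*} [Group L] [Group M] (e : L ≃* M) (h : OddIn M) : OddIn L := by
  intro α hα
  have h1 : Odd (orderOf (MulAut.congr e α)) := by
    rw [MulEquiv.orderOf_eq]
    exact hα
  obtain ⟨g, hg⟩ := h _ h1
  refine ⟨e.symm g, ?_⟩
  apply MulEquiv.ext
  intro x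
  apply e.injective
  have h2 := congrArg (fun β : MulAut M => β (e x)) hg
  have h3 : (MulAut.congr e α) (e x) = e (α x) := by
    change e (α (e.symm (e x))) = _
    rw [e.symm_apply_apply]
  change (MulAut.congr e α) (e x) = _ at h2
  rw [h3] at h2
  rw [h2, MulAut.conj_apply, MulAut.conj_apply, map_mul, map_mul, map_inv, e.apply_symm_apply]

theorem oddIn_of_inner {L : Type*} [Group L] (h : ∀ α : MulAut L, ∃ g : L, α = MulAut.conj g) : OddIn L :=
  fun α _ => h α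

theorem oddIn_of_sq {L : Type*} [Group L] (h : ∀ α : MulAut L, ∃ g : L, α * α = MulAut.conj g) : OddIn L := by
  intro α hα
  obtain ⟨k, hk⟩ := hα
  obtain ⟨g, hg⟩ := h α
  refine ⟨g ^ (k + 1), ?_⟩
  rw [map_pow, ← hg, ← pow_two, ← pow_mul]
  have h1 : α ^ (2 * (k + 1)) = α ^ (orderOf α) * α := by
    rw [hk, ← pow_succ]
    congr 1
  rw [h1, pow_orderOf_eq_one, one_mul]

/-- a Sylow `p`-subgroup, `p` odd, lies in `L` -/
theorem le_of_oddIn {H : Type*} [Group H] [Finite H] {p : ℕ} [hp : Fact p.Prime] (hp2 : p ≠ 2) (L : Subgroup H)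
    [L.Normal] (hC : centralizer (L : Set H) = ⊥) (hL : OddIn L) (P : Sylow p H) : (P : Subgroup H) ≤ L := by
  intro x hx
  have h1 : Odd (orderOf (MulAut.conjNormal x : MulAut L)) := by
    have h2 : orderOf (MulAut.conjNormal x : MulAut L) ∣ orderOf x := orderOf_map_dvd _ x
    obtain ⟨k, hk⟩ := pElt_of_mem P.isPGroup' hx
    have h3 : orderOf x ∣ p ^ k := orderOf_dvd_of_pow_eq_one hk
    have h4 : Odd (p ^ k) := (hp.out.odd_of_ne_two hp2).pow
    exact h4.of_dvd_nat (h2.trans h3)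
  obtain ⟨g, hg⟩ := hL _ h1
  have h2 : (g : H)⁻¹ * x ∈ centralizer (L : Set H) := by
    rw [mem_centralizer_iff]
    intro y hy
    have h3 := congrArg (fun β : MulAut L => ((β ⟨y, hy⟩ : L) : H)) hg
    change ((MulAut.conjNormal x ⟨y, hy⟩ : L) : H) = ((MulAut.conj g ⟨y, hy⟩ : L) : H) at h3
    rw [MulAut.conjNormal_apply, MulAut.conj_apply] at h3
    change x * y * x⁻¹ = g * y * (g : H)⁻¹ at h3
    have h4 : x * y = g * y * (g : H)⁻¹ * x := by rw [← h3]; group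
    calc y * ((g : H)⁻¹ * x) = (g : H)⁻¹ * (g * y * (g : H)⁻¹ * x) := by group
      _ = (g : H)⁻¹ * x * y := by rw [← h4]; group
  rw [hC, mem_bot] at h2
  have h3 : x = g := by
    have := inv_mul_eq_one.1 h2
    exact this.symm
  rw [h3]
  exact g.2

theorem oddIn_m11 {K : Type u} [Group K] [Finite K] (h : Spor.IsoM11 K) : OddIn K :=
  oddIn_of_inner (Cfsg.Agent.UGT.End.MEleven.inner h)

theorem oddIn_mcl {K : Type u} [Group K] (h : Spor.IsoMcL K) : OddIn K := by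
  obtain ⟨hfin, hs, hcard, ⟨L⟩⟩ := Cfsg.Agent.TypeM.FactsMcL.facts h
  intro α h1
  obtain ⟨g, hg⟩ := Cfsg.Agent.UGT.End.McLOuter.inner_of_odd L hcard α h1
  exact ⟨g, hg.symm⟩

theorem oddIn_fi22 {K : Type u} [Group K] (h : Spor.IsoFi22 K) : OddIn K := by
  obtain ⟨e⟩ := h
  refine OddIn.congr e (oddIn_of_sq fun α => ?_)
  by_cases hα : ∃ x, α = MulAut.conj x
  · obtain ⟨x, rfl⟩ := hα
    exact ⟨x * x, by rw [map_mul]⟩
  · push Not at hα
    exact Cfsg.Agent.OddHalf.Table.OutFi22.mul_outer α α hα hα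

theorem oddIn_j4 {K : Type u} [Group K] (h : Spor.IsoJ4 K) : OddIn K := by
  obtain ⟨h1, h2, ⟨F⟩⟩ := Cfsg.Agent.KFacts.J4.Base.exists_full h
  exact oddIn_of_inner (Cfsg.Agent.KFacts.J4.SheetJ4.inner F)

theorem oddIn_alt {n : ℕ} (hn : 7 ≤ n) : OddIn ↥(alternatingGroup (Fin n)) := by
  refine oddIn_of_sq fun α => ?_
  obtain ⟨k, rfl⟩ : ∃ k, n = k + 2 := ⟨n - 2, by omega⟩
  obtain ⟨σ, hσ⟩ := StandardComponent.AltAut.exists_conj (m := k) (by omega) α
  have h2 : σ * σ ∈ alternatingGroup (Fin (k + 2)) := by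
    rw [Equiv.Perm.mem_alternatingGroup, map_mul]
    exact Int.units_mul_self _
  refine ⟨⟨σ * σ, h2⟩, ?_⟩
  apply MulEquiv.ext
  intro x
  apply Subtype.ext
  change _ = σ * σ * (x : Equiv.Perm (Fin (k + 2))) * (σ * σ)⁻¹
  rw [MulAut.mul_apply, hσ, hσ]
  group

/-! ### the almost simple case, `p` odd -/

/-- the exceptional types with `P ≤ L` -/
def Exc (p : ℕ) (L : Type*) [Group L] : Prop :=
  (p = 3 ∧ ((∃ (F : Type) (_ : Field F) (_ : Fintype F), Fintype.card F = 4 ∧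
      Nonempty (L ≃* Matrix.ProjectiveSpecialLinearGroup (Fin 3) F)) ∨ Spor.IsoM11 L)) ∨
    (p = 5 ∧ (Lie.IsoTits L ∨ Spor.IsoMcL L)) ∨ (p = 11 ∧ Spor.IsoJ4 L)

/-- `Sz(32)` -/
def Sz32 (L : Type*) [Group L] : Prop :=
  ∃ (F : Type) (_ : Field F) (_ : Fintype F), Fintype.card F = 32 ∧ Nonempty (L ≃* ↥(Lie.Sz F 8))

/-- the list of S2120 -/
def List20 (p : ℕ) (L : Type*) [Group L] : Prop :=
  (∃ (F : Type) (_ : Field F) (_ : Fintype F), CharP F p ∧ Nonempty (L ≃* Matrix.ProjectiveSpecialLinearGroup (Fin 2) F)) ∨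
  (∃ (F : Type) (_ : Field F) (_ : Fintype F) (n : ℕ), 1 ≤ n ∧ Fintype.card F = p ^ (2 * n) ∧
    Nonempty (L ≃* Cfsg.PSU 3 F (p ^ n))) ∨
  (p = 3 ∧ Lie.IsoRee L) ∨
  Nonempty (L ≃* ↥(alternatingGroup (Fin (2 * p)))) ∨
  (p = 3 ∧ ((∃ (F : Type) (_ : Field F) (_ : Fintype F), Fintype.card F = 4 ∧
      Nonempty (L ≃* Matrix.ProjectiveSpecialLinearGroup (Fin 3) F)) ∨
    (∃ (F : Type) (_ : Field F) (_ : Fintype F), Fintype.card F = 8 ∧
      Nonempty (L ≃* Matrix.ProjectiveSpecialLinearGroup (Fin 2) F)) ∨ Cfsg.Spor.IsoM11 L)) ∨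
  (p = 5 ∧ (Cfsg.Lie.IsoTits L ∨ (∃ (F : Type) (_ : Field F) (_ : Fintype F), Fintype.card F = 32 ∧
    Nonempty (L ≃* ↥(Cfsg.Lie.Sz F 8))) ∨ Cfsg.Spor.IsoMcL L ∨ Cfsg.Spor.IsoFi22 L)) ∨
  (p = 11 ∧ Cfsg.Spor.IsoJ4 L)

/-- S4749 for `Fi22` -/
def Goal49 : Prop := ∀ (L : Type u) [Group L] [Finite L] [IsSimpleGroup L], ¬ IsMulCommutative L → ∀ R : Sylow 5 L,
  (∀ g : L, g ∉ Subgroup.normalizer ((R : Subgroup L) : Set L) →
    (R : Subgroup L) ⊓ (MulAut.conj g • (R : Subgroup L)) = ⊥) → ¬ IsCyclic ↥(R : Subgroup L) →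
    (∃ (F : Type) (_ : Field F) (_ : Fintype F) (n : ℕ), 2 ≤ n ∧ Fintype.card F = 5 ^ n ∧
      Nonempty (L ≃* Matrix.ProjectiveSpecialLinearGroup (Fin 2) F)) ∨
    (∃ (F : Type) (_ : Field F) (_ : Fintype F) (n : ℕ), 1 ≤ n ∧ Fintype.card F = (5 ^ n) ^ 2 ∧
      Nonempty (L ≃* Cfsg.PSU 3 F (5 ^ n))) ∨ Cfsg.IsTits L ∨ Cfsg.IsMcL L

theorem Fit.lt {L : Type*} [Group L] [Finite L] {p : ℕ} [hp : Fact p.Prime] (hf : Fit p L) (R : Sylow p L) :
    Nat.card L < Nat.card (R : Subgroup L) * ((Nat.card (R : Subgroup L) + 1) * Nat.card (R : Subgroup L)) := by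
  obtain ⟨k, h, g, hk, hg, hc, hlt, hh⟩ := hf
  have hc' : Nat.card L = p ^ k * ((p ^ k + 1) * h) := by
    apply Nat.eq_of_mul_eq_mul_left hg
    rw [hc]
    ring
  have hnd : ¬ p ∣ (p ^ k + 1) * h := by
    intro hd
    rcases hp.out.dvd_mul.1 hd with h1 | h1
    · have h2 : p ∣ 1 := (Nat.dvd_add_right (dvd_pow_self p (by omega))).1 h1
      exact hp.out.one_lt.ne' (Nat.dvd_one.1 h2)
    · exact hh h1
  rw [card_sylow_pow hc' hnd R, hc']
  have h0 : 0 < p ^ k := pow_pos hp.out.pos k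
  exact Nat.mul_lt_mul_of_pos_left (Nat.mul_lt_mul_of_pos_left hlt (by omega)) h0

/-- the form of TI of S4749 -/
theorem ti_conj {L : Type*} [Group L] [Finite L] {p : ℕ} [hp : Fact p.Prime] (h : IsTI p L) (R : Sylow p L) (g : L)
    (hg : g ∉ normalizer ((R : Subgroup L) : Set L)) : (R : Subgroup L) ⊓ (MulAut.conj g • (R : Subgroup L)) = ⊥ := by
  have h1 : R ≠ g • R := fun h1 => hg (Sylow.smul_eq_iff_mem_normalizer.1 h1.symm)
  exact inf_eq_bot h R (g • R) h1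

section Odd

variable {H : Type u} [Group H] [Finite H] {p : ℕ} [hp : Fact p.Prime]

omit [Finite H] hp in
theorem card_inf (L : Subgroup H) (P : Sylow p H) {R : Sylow p L} (hR : (R : Subgroup L) = (P : Subgroup H).subgroupOf L) :
    Nat.card (R : Subgroup L) = Nat.card ↥((P : Subgroup H) ⊓ L) := by
  rw [hR, ← Subgroup.subgroupOf_map_subtype]
  exact (Nat.card_congr (((P : Subgroup H).subgroupOf L).equivMapOfInjective L.subtype L.subtype_injective).toEquiv)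

theorem card_sylow_dvd (h : IsTI p H) (L : Subgroup H) [L.Normal] (hL : p ∣ Nat.card L) (P : Sylow p H)
    (R : Sylow p L) : Nat.card (R : Subgroup L) ∣ Nat.card (P : Subgroup H) := by
  obtain ⟨R', hR'⟩ := exists_sylow_inf h L hL P
  rw [show Nat.card (R : Subgroup L) = Nat.card (R' : Subgroup L) by
    rw [R.card_eq_multiplicity, R'.card_eq_multiplicity], card_inf L P hR']
  exact card_dvd_of_le inf_le_left

theorem le_of_card (h : IsTI p H) (L : Subgroup H) [L.Normal] (hL : p ∣ Nat.card L) (P : Sylow p H)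
    (R : Sylow p L) (hPR : Nat.card (P : Subgroup H) ≤ Nat.card (R : Subgroup L)) : (P : Subgroup H) ≤ L := by
  obtain ⟨R', hR'⟩ := exists_sylow_inf h L hL P
  rw [show Nat.card (R : Subgroup L) = Nat.card (R' : Subgroup L) by
    rw [R.card_eq_multiplicity, R'.card_eq_multiplicity], card_inf L P hR'] at hPR
  have h1 := Subgroup.eq_of_le_of_card_ge (inf_le_left : (P : Subgroup H) ⊓ L ≤ P) hPR
  exact inf_eq_left.1 h1

theorem not_isCyclic (h : IsTI p H) (L : Subgroup H) [L.Normal] (hL : p ∣ Nat.card L) (P : Sylow p H)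
    (hnc : ¬ IsCyclic ↥(P : Subgroup H)) (hPL : (P : Subgroup H) ≤ L) (R : Sylow p L) : ¬ IsCyclic ↥(R : Subgroup L) := by
  intro hR
  apply hnc
  obtain ⟨R', hR'⟩ := exists_sylow_inf h L hL P
  have hc : IsCyclic ↥(R' : Subgroup L) := isCyclic_of_surjective _ (Sylow.equiv R R').surjective
  have e : ↥(R' : Subgroup L) ≃* ↥(P : Subgroup H) :=
    (MulEquiv.subgroupCongr hR').trans (Subgroup.subgroupOfEquivOfLe hPL)
  exact isCyclic_of_surjective _ e.surjective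

/-- `|P|` divides `|Syl_p(L)| - 1` -/
theorem card_dvd' (h : IsTI p H) (L : Subgroup H) [L.Normal] (hL : p ∣ Nat.card L) (P : Sylow p H) :
    Nat.card (P : Subgroup H) ∣ Nat.card (Sylow p L) - 1 := by
  rw [card_sylow_normal h L hL]
  exact card_dvd h P

theorem sylow_ne_one (L : Subgroup H) [IsSimpleGroup L] (hna : ¬ IsMulCommutative L) (hL : p ∣ Nat.card L) :
    Nat.card (Sylow p L) ≠ 1 := by
  intro h1
  obtain ⟨R⟩ : Nonempty (Sylow p L) := inferInstance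
  have h2 := R.card_eq_index_normalizer
  rw [h1] at h2
  have h3 : normalizer ((R : Subgroup L) : Set L) = ⊤ := Subgroup.index_eq_one.1 h2.symm
  have h4 : (R : Subgroup L).Normal := Subgroup.normalizer_eq_top_iff.1 h3
  rcases h4.eq_bot_or_eq_top with h5 | h5
  · have h6 := R.dvd_card_of_dvd_card hL
    rw [h5, Subgroup.card_bot] at h6
    exact hp.out.one_lt.ne' (Nat.dvd_one.1 h6)
  · apply hna
    have h4 : IsPGroup p L := by
      have : IsPGroup p (⊤ : Subgroup L) := h5 ▸ R.isPGroup'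
      exact this.of_equiv Subgroup.topEquiv
    have h7 := IsPGroup.center_nontrivial h4
    have h8 : (center L).Normal := inferInstance
    rcases h8.eq_bot_or_eq_top with h6 | h6
    · exact absurd h6 ((Subgroup.nontrivial_iff_ne_bot _).1 h7)
    · refine ⟨⟨fun a b => ?_⟩⟩
      have h7 : b ∈ center L := by rw [h6]; exact mem_top b
      exact mem_center_iff.1 h7 a

end Odd

theorem dvd_sylow {L : Type*} [Group L] [Finite L] {p : ℕ} [hp : Fact p.Prime] {N k m : ℕ} (h : Nat.card L = N) (hN : N = p ^ k * m)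
    (hm : ¬ p ∣ m) (R : Sylow p L) : Nat.card (R : Subgroup L) = p ^ k ∧ Nat.card (Sylow p L) ∣ m := by
  have h1 := card_sylow_pow (h.trans hN) hm R
  refine ⟨h1, ?_⟩
  have h2 := (R : Subgroup L).card_mul_index
  rw [h1, h.trans hN] at h2
  have h3 := Nat.eq_of_mul_eq_mul_left (pow_pos hp.out.pos k) h2
  rw [← h3]
  exact R.card_dvd_index

theorem tits_arith {n : ℕ} (h : n ∣ 718848) (h1 : 125 ∣ n - 1) (h0 : 0 < n) : n = 1 := by
  have h2 : 718848 = 2 ^ 11 * (3 ^ 3 * 13 ^ 1) := by norm_num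
  rw [h2, Nat.dvd_mul] at h
  obtain ⟨a, b, ha, hb, rfl⟩ := h
  rw [Nat.dvd_mul] at hb
  obtain ⟨c, d, hc, hd, rfl⟩ := hb
  obtain ⟨i, hi, rfl⟩ := (Nat.dvd_prime_pow Nat.prime_two).1 ha
  obtain ⟨j, hj, rfl⟩ := (Nat.dvd_prime_pow Nat.prime_three).1 hc
  obtain ⟨l, hl, rfl⟩ := (Nat.dvd_prime_pow (by norm_num : Nat.Prime 13)).1 hd
  have key : ∀ i < 12, ∀ j < 4, ∀ l < 2, (2 ^ i * (3 ^ j * 13 ^ l)) % 125 = 1 → 2 ^ i * (3 ^ j * 13 ^ l) = 1 := by
    decide +kernel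
  refine key i (by omega) j (by omega) l (by omega) ?_
  omega

theorem psl28_arith {n : ℕ} (h : n ∣ 56) (h1 : 9 ∣ n - 1) (h0 : n ≠ 1) : n = 28 := by
  have h2 := Nat.le_of_dvd (by norm_num) h
  interval_cases n <;> first | rfl | (exfalso; revert h1; decide) | (exfalso; revert h; decide) | (exfalso; exact h0 rfl)

/-- **`p` odd.** -/
theorem main_odd {H : Type u} [Group H] [Finite H] {p : ℕ} [hp : Fact p.Prime] (hp2 : p ≠ 2) (h : IsTI p H)
    (P : Sylow p H) (hnc : ¬ IsCyclic ↥(P : Subgroup H)) (L : Subgroup H) [L.Normal] [hs : IsSimpleGroup L]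
    (hna : ¬ IsMulCommutative L) (hC : centralizer (L : Set H) = ⊥) (hL : p ∣ Nat.card L) (h49 : Goal49.{u})
    (hl : List20 p L) :
    Nat.card (Sylow p H) = 1 + Nat.card (P : Subgroup H) ∨ ((P : Subgroup H) ≤ L ∧ Exc p L) ∨
      (p = 5 ∧ ¬ (P : Subgroup H) ≤ L ∧ Sz32 L) := by
  have hTL : IsTI p L := h.subgroup L
  have hfit : Fit p L → Nat.card (Sylow p H) = 1 + Nat.card (P : Subgroup H) := fun hf =>
    card_sylow_of h L hL (fun R => hf.card_sylow hTL R) P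
  have hnoSP : ¬ Cfsg.Agent.H818.StrP.NoSP p L := by
    obtain ⟨R⟩ : Nonempty (Sylow p L) := inferInstance
    refine Cfsg.Agent.H666.Link.not_noSP hna hTL R.isPGroup' ?_
    intro h1
    have h2 := R.dvd_card_of_dvd_card hL
    rw [h1, Subgroup.card_bot] at h2
    exact hp.out.one_lt.ne' (Nat.dvd_one.1 h2)
  obtain ⟨R⟩ : Nonempty (Sylow p L) := inferInstance
  have hPd := card_dvd' h L hL P
  have hS1 := sylow_ne_one L hna hL
  have hS0 : 0 < Nat.card (Sylow p L) := Nat.card_pos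
  obtain ⟨k, hk⟩ := IsPGroup.iff_card.1 P.isPGroup'
  rcases hl with ⟨F, _, _, _, ⟨e⟩⟩ | ⟨F, _, _, n, hn, hF, ⟨e⟩⟩ | ⟨rfl, K, _, _, m, hm, hK, ⟨e⟩⟩ | ⟨⟨e⟩⟩ |
    ⟨rfl, ⟨F, i1, i2, hF, ⟨e⟩⟩ | ⟨F, _, _, hF, ⟨e⟩⟩ | h11⟩ | ⟨rfl, ht | hsz | hm | hf⟩ | ⟨rfl, hj⟩
  · left
    obtain ⟨n, -, hn⟩ := FiniteField.card F p
    exact hfit ((fit_psl2 (n := n) n.pos hn).congr e.toEquiv)
  · left
    refine hfit ((fit_psu3 hn ?_).congr e.toEquiv)
    rw [hF, ← pow_mul, mul_comm]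
  · left
    exact hfit ((fit_ree hK).congr e.toEquiv)
  · rcases Nat.lt_or_ge p 4 with h4 | h4
    · left
      have h3 : p = 3 := by
        have := hp.out.two_le
        interval_cases p
        · exact absurd rfl hp2
        · rfl
      subst h3
      exact hfit (fit_a6.congr e.toEquiv)
    · exfalso
      have hPL : (P : Subgroup H) ≤ L := le_of_oddIn hp2 L hC ((oddIn_alt (by omega)).congr e) P
      rcases Cfsg.Agent.H666.AltRow.row_alt hp2 ⟨2 * p, by omega, ⟨e⟩⟩ hTL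
        (fun hc => not_isCyclic h L hL P hnc hPL R (hc R)) with h5 | h5
      · exact hnoSP h5
      · omega
  · -- `PSL₃(4)`
    have hR := dvd_sylow (p := 3) (L := L) (N := 20160) (k := 2) (m := 2240) (by
      rw [Nat.card_congr e.toEquiv]
      have h := S0243.result (F := F) hF 3 (by norm_num)
      rw [Fin.prod_univ_three] at h
      norm_num at h
      omega) (by norm_num) (by norm_num) R
    have hPL : (P : Subgroup H) ≤ L := by
      refine le_of_card h L hL P R ?_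
      rw [hR.1, hk]
      apply Nat.pow_le_pow_right (by norm_num)
      by_contra hcon
      refine Cfsg.Agent.H476.PU.l34 (K := L) (Dvd.dvd.trans ?_ hPd) hF e
      rw [hk]
      exact pow_dvd_pow 3 (by omega : 3 ≤ k)
    exact Or.inr (Or.inl ⟨hPL, Or.inl ⟨rfl, Or.inl ⟨F, i1, i2, hF, ⟨e⟩⟩⟩⟩)
  · -- `PSL₂(8)`
    left
    have hcard : Nat.card L = 504 := by
      have h1 := Cfsg.Agent.ClassicalGeometry.PSL2Basic.card_PSL2_gcd (F := F)
      rw [hF] at h1
      rw [Nat.card_congr e.toEquiv]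
      norm_num at h1
      omega
    have hR := dvd_sylow (p := 3) (k := 2) (m := 56) hcard (by norm_num) (by norm_num) R
    have h28 : Nat.card (Sylow 3 L) = 28 := by
      refine psl28_arith hR.2 ?_ hS1
      have h2 := card_dvd hTL R
      rw [hR.1] at h2
      exact h2
    rw [h28, hk] at hPd
    have hk3 : k ≤ 3 := by
      have h3 : 3 ^ k ∣ 3 ^ 3 := by
        have : 28 - 1 = 3 ^ 3 := by norm_num
        rwa [this] at hPd
      exact (Nat.pow_dvd_pow_iff_le_right (by norm_num)).1 h3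
    have hcyc : ∀ R : Sylow 3 L, IsCyclic ↥(R : Subgroup L) := by
      have hfin : Finite (Matrix.ProjectiveSpecialLinearGroup (Fin 2) F) := Finite.of_equiv _ e.toEquiv
      obtain ⟨C, _, -, -, hcyc, hC, -, -⟩ := ClassicalGeometry.PSLTorus.exists_psl_torus F
      rw [hF] at hC
      have hC9 : Nat.card C = 3 ^ 2 := by rw [hC]; norm_num
      intro R
      refine Cfsg.Agent.H469.sylow_congr e (fun Q => ?_) R
      obtain ⟨Q', hQ'⟩ := (IsPGroup.of_card hC9).exists_le_sylow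
      have hQc := (dvd_sylow (p := 3) (k := 2) (m := 56)
        ((Nat.card_congr e.symm.toEquiv).trans hcard) (by norm_num) (by norm_num) Q').1
      have hCQ := Subgroup.eq_of_le_of_card_ge hQ' (by rw [hQc, hC9])
      rw [hCQ] at hcyc
      exact isCyclic_of_surjective _ (Sylow.equiv Q' Q).surjective
    have hk2 : ¬ k ≤ 2 := by
      intro hk2
      have hPL : (P : Subgroup H) ≤ L := by
        refine le_of_card h L hL P R ?_
        rw [hR.1, hk]
        exact Nat.pow_le_pow_right (by norm_num) hk2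
      exact not_isCyclic h L hL P hnc hPL R (hcyc R)
    have hk' : k = 3 := by omega
    rw [← card_sylow_normal h L hL, h28, hk, hk']
    norm_num
  · -- `M₁₁`
    exact Or.inr (Or.inl ⟨le_of_oddIn hp2 L hC (oddIn_m11 h11) P, Or.inl ⟨rfl, Or.inr h11⟩⟩)
  · -- the Tits group
    have hc : Nat.card L = 17971200 := by
      obtain ⟨e⟩ := ht
      rw [Nat.card_congr e.toEquiv, S1074.result.2.2.2]
      norm_num
    have hR := dvd_sylow (p := 5) (k := 2) (m := 718848) hc (by norm_num) (by norm_num) R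
    have hPL : (P : Subgroup H) ≤ L := by
      refine le_of_card h L hL P R ?_
      rw [hR.1, hk]
      apply Nat.pow_le_pow_right (by norm_num)
      by_contra hcon
      refine hS1 (tits_arith hR.2 (Dvd.dvd.trans ?_ hPd) hS0)
      rw [hk]
      exact pow_dvd_pow 5 (by omega : 3 ≤ k)
    exact Or.inr (Or.inl ⟨hPL, Or.inr (Or.inl ⟨rfl, Or.inl ht⟩)⟩)
  · -- `Sz(32)`
    refine Or.inr (Or.inr ⟨rfl, fun hPL => not_isCyclic h L hL P hnc hPL R ?_, hsz⟩)
    obtain ⟨F, _, _, hF, ⟨e⟩⟩ := hsz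
    have hF' : Fintype.card F = 2 ^ (2 * 2 + 1) := by rw [hF]; norm_num
    exact Cfsg.Agent.H469.sylow_congr e (H67.SzOdd.sylow_cyclic (F := F) (m := 2) (by norm_num) hF' (p := 5) (by norm_num)) R
  · -- `McL`
    exact Or.inr (Or.inl ⟨le_of_oddIn hp2 L hC (oddIn_mcl hm) P, Or.inr (Or.inl ⟨rfl, Or.inr hm⟩)⟩)
  · -- `Fi₂₂`
    exfalso
    have hPL : (P : Subgroup H) ≤ L := le_of_oddIn hp2 L hC (oddIn_fi22 hf) P
    have hc : Nat.card L = 64561751654400 := by
      obtain ⟨e⟩ := hf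
      rw [Nat.card_congr e.toEquiv, S1696.result.2]
    have hR := dvd_sylow (p := 5) (k := 2) (m := 2582470066176) hc (by norm_num) (by norm_num) R
    have hlt : ¬ Fit 5 L := by
      intro hf
      have := hf.lt R
      rw [hR.1, hc] at this
      norm_num at this
    rcases h49 L hna R (ti_conj hTL R) (not_isCyclic h L hL P hnc hPL R) with ⟨F, _, _, n, hn, hF, ⟨e⟩⟩ |
      ⟨F, _, _, n, hn, hF, ⟨e⟩⟩ | ⟨_, h1⟩ | ⟨_, h1⟩
    · exact hlt ((fit_psl2 (by omega) hF).congr e.toEquiv)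
    · exact hlt ((fit_psu3 hn hF).congr e.toEquiv)
    · rw [hc] at h1
      norm_num at h1
    · rw [hc] at h1
      norm_num at h1
  · -- `J₄`
    exact Or.inr (Or.inl ⟨le_of_oddIn hp2 L hC (oddIn_j4 hj) P, Or.inr (Or.inr ⟨rfl, hj⟩)⟩)

/-! ### `p = 2` -/

section Two

variable {G : Type*} [Group G] [Finite G]

omit [Finite G] in
theorem mem_of_normalizer {p : ℕ} [hp : Fact p.Prime] (P : Sylow p G) {x : G} (hx : PElt p x)
    (hxN : x ∈ normalizer ((P : Subgroup G) : Set G)) : x ∈ P := by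
  have h1 : IsPGroup p ↥(zpowers x ⊔ (P : Subgroup G)) :=
    (isPGroup_zpowers hx).to_sup_of_normal_right' P.isPGroup' (by rwa [zpowers_le])
  have h2 := P.is_maximal' h1 le_sup_right
  show x ∈ (P : Subgroup G)
  rw [← h2]
  exact mem_sup_left (mem_zpowers x)

theorem strongly (hTI : IsTI 2 G) (P : Sylow 2 G) (hP1 : (P : Subgroup G) ≠ ⊥)
    (hN : normalizer ((P : Subgroup G) : Set G) ≠ ⊤) : IsStronglyEmbedded (normalizer ((P : Subgroup G) : Set G)) := by
  have h2 : Fact (Nat.Prime 2) := ⟨Nat.prime_two⟩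
  refine ⟨hN, ?_, ?_⟩
  · have h1 : 2 ∣ Nat.card (P : Subgroup G) := by
      obtain ⟨k, hk⟩ := IsPGroup.iff_card.1 P.isPGroup'
      have hk0 : k ≠ 0 := by
        rintro rfl
        rw [pow_zero, Subgroup.card_eq_one] at hk
        exact hP1 hk
      rw [hk]
      exact dvd_pow_self 2 hk0
    exact even_iff_two_dvd.2 (h1.trans (card_dvd_of_le le_normalizer))
  · intro g hg
    by_contra hodd
    rw [Nat.not_odd_iff_even, even_iff_two_dvd] at hodd
    obtain ⟨x, hx⟩ := exists_prime_orderOf_dvd_card' 2 hodd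
    have hx2 : orderOf (x : G) = 2 := by rw [Subgroup.orderOf_coe, hx]
    have hxp : PElt 2 (x : G) := pElt_of_orderOf hx2
    have hx1 : (x : G) ≠ 1 := by
      intro h
      rw [h, orderOf_one] at hx2
      norm_num at hx2
    have h3 : (x : G) ∈ P := mem_of_normalizer P hxp x.2.1
    obtain ⟨y, hy, hyx⟩ := x.2.2
    have hyx' : g * y * g⁻¹ = x := hyx
    have hyp : PElt 2 y := by
      have h4 := hxp.conj g⁻¹
      rw [← hyx'] at h4
      rwa [show g⁻¹ * (g * y * g⁻¹) * g⁻¹⁻¹ = y by group] at h4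
    have h5 : y ∈ P := mem_of_normalizer P hyp hy
    apply hg
    refine Sylow.smul_eq_iff_mem_normalizer.1 ?_
    refine hTI.sylow_eq (x := (x : G)) ?_ h3 hx1
    show (x : G) ∈ ((g • P : Sylow 2 G) : Subgroup G)
    rw [Sylow.coe_subgroup_smul]
    exact ⟨y, h5, hyx'⟩

end Two

/-- **`p = 2`.** -/
theorem main_two {H : Type u} [Group H] [Finite H] (h : IsTI 2 H) (P : Sylow 2 H) (L : Subgroup H) [L.Normal]
    [hs : IsSimpleGroup L] (hna : ¬ IsMulCommutative L) (hL : 2 ∣ Nat.card L) :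
    Nat.card (Sylow 2 H) = 1 + Nat.card (P : Subgroup H) := by
  have hTL : IsTI 2 L := h.subgroup L
  have hfit : Fit 2 L → Nat.card (Sylow 2 H) = 1 + Nat.card (P : Subgroup H) := fun hf =>
    card_sylow_of h L hL (fun R => hf.card_sylow hTL R) P
  obtain ⟨R⟩ : Nonempty (Sylow 2 L) := inferInstance
  have hR1 : (R : Subgroup L) ≠ ⊥ := by
    intro h1
    have h2 := R.dvd_card_of_dvd_card hL
    rw [h1, Subgroup.card_bot] at h2
    omega
  have hN : normalizer ((R : Subgroup L) : Set L) ≠ ⊤ := by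
    intro h1
    apply sylow_ne_one L hna hL
    have h2 : Nat.card (Sylow 2 L) = (normalizer ((R : Subgroup L) : Set L)).index := R.card_eq_index_normalizer
    rw [h2, h1, Subgroup.index_top]
  rcases Cfsg.Agent.StrongEmb.Strong.result (Cfsg.Agent.H666.Link.exists_ne_comm hna) _
    (strongly hTL R hR1 hN) with ⟨F, _, _, ⟨n, hn, hF⟩, ⟨e⟩⟩ | ⟨F, _, _, m, hm, hF, ⟨e⟩⟩ |
    ⟨F, _, _, n, hn, hF, ⟨e⟩⟩
  · exact hfit ((fit_psl2 (by omega) hF).congr e.toEquiv)
  · exact hfit ((fit_sz hm hF).congr e.toEquiv)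
  · exact hfit ((fit_psu3 (by omega) hF).congr e.toEquiv)

/-! ### the reduction -/

open Cfsg.Agent.H723.TI

/-- the list of S2120 with the strongly embedded subgroup -/
def Goal20 : Prop := ∀ (X : Type u) [Group X] [Finite X] (K : Subgroup X) [K.Normal], IsSimpleGroup ↥K →
  ¬ IsMulCommutative ↥K → centralizer (K : Set X) = ⊥ → ∀ (p : ℕ) [Fact p.Prime], p ≠ 2 → ∀ H : Subgroup X,
    IsStronglyPEmbedded p H → (∀ P : Sylow p X, IsCyclic ↥P) ∨ List20 p K

/-- **T1**: a TI Sylow subgroup `P` which is not normal and contains a noncyclic abelian subgroup. -/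
theorem rk_noncyclic (h20 : Goal20.{u}) (h49 : Goal49.{u}) (hR1 : RankOne.{u}) (h11 : RowM11.{u})
    (hl : RowL34.{u}) (ht : RowTits.{u}) (hm : RowMcL.{u}) (hj : RowJ4.{u}) (hsz : RowSz32.{u})
    {p : ℕ} [hp : Fact p.Prime] {G : Type u} [Group G] [Finite G] (P : Sylow p G) (hTI : TIs P)
    (hn : ¬ (P : Subgroup G).Normal) {V : Subgroup G} (hVP : V ≤ P) (hVc : IsMulCommutative V)
    (hV : ¬ IsCyclic V) : Rk p P := by
  have hT := Cfsg.Agent.H666.Link.isTI_of_conj P hTI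
  have hNn : (pPrimeCore p G).Normal := Cfsg.pPrimeCore_normal p G
  have hNc : (Nat.card (pPrimeCore p G)).Coprime p := Cfsg.Agent.Lib.Cores.pPrimeCore_coprime p
  have hN : ¬ p ∣ Nat.card (pPrimeCore p G) := fun h =>
    hp.out.one_lt.ne' (Nat.eq_one_of_dvd_coprimes hNc h dvd_rfl)
  have hc : ∀ x : G, PElt p x → ∀ n ∈ pPrimeCore p G, x * n = n * x :=
    Cfsg.Agent.H327.TI.comm_core hT P V hVP hVc hV
  have hTQ := Cfsg.Agent.H327.TI.isTI_quot hT hN hc
  have hcore : ∀ Q : Subgroup (G ⧸ pPrimeCore p G), Q.Normal → ¬ p ∣ Nat.card Q → Q = ⊥ := by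
    intro Q hQ hQp
    have h1 : Q ≤ pPrimeCore p (G ⧸ pPrimeCore p G) :=
      Cfsg.Agent.Lib.Cores.le_pPrimeCore hQ ((Nat.Prime.coprime_iff_not_dvd hp.out).2 hQp).symm
    rw [Cfsg.Agent.Lib.Cores.pPrimeCore_quotient_pPrimeCore] at h1
    exact le_bot_iff.1 h1
  have hVne : V ≠ ⊥ := by
    rintro rfl
    exact hV inferInstance
  have hP1 : (P : Subgroup G) ≠ ⊥ := by
    intro h
    rw [h, le_bot_iff] at hVP
    exact hVne hVP
  have hdG : p ∣ Nat.card G := by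
    have h2 : IsPGroup p V := P.isPGroup'.to_le hVP
    obtain ⟨k, hk⟩ := IsPGroup.iff_card.1 h2
    have h3 : k ≠ 0 := by
      rintro rfl
      rw [pow_zero] at hk
      exact hVne (Subgroup.card_eq_one.1 hk)
    exact ((dvd_pow_self p h3).trans hk.symm.dvd).trans (Subgroup.card_subgroup_dvd_card V)
  obtain ⟨S, hS1, hS2, hS3, hS4, hS5⟩ := Cfsg.Agent.H334.TI.socle hTQ hcore
    (Cfsg.Agent.H327.TI.pcore_quot hT hN hc P hn) (Cfsg.Agent.H327.TI.dvd_card_quot hN hc hdG)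
  have hsit : Sit p P S := ⟨hTI, by
    intro n hn
    rw [mem_centralizer_iff]
    intro x hx
    exact hc x (pElt_of_mem P.isPGroup' hx) n hn, hS1, hS2, hS3, hS4⟩
  -- the image of `P`
  obtain ⟨Q, hQ⟩ : ∃ Q : Sylow p (G ⧸ pPrimeCore p G), (Q : Subgroup (G ⧸ pPrimeCore p G)) = img p P :=
    ⟨P.mapSurjective (QuotientGroup.mk'_surjective _), Sylow.coe_mapSurjective _ _⟩
  have hQc : Nat.card (Q : Subgroup (G ⧸ pPrimeCore p G)) = Nat.card (P : Subgroup G) := by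
    rw [hQ]
    exact card_map hN hc P
  have hrank : Nat.card (Sylow p (G ⧸ pPrimeCore p G)) = 1 + Nat.card (Q : Subgroup (G ⧸ pPrimeCore p G)) → Rk p P := by
    intro h1
    refine hR1 p G P hP1 hTI ?_
    rw [← card_sylow_quot hN hc, h1, hQc]
  by_cases hp2 : p = 2
  · subst hp2
    exact hrank (main_two hTQ Q S hS3 hS5)
  · have hQnc : ¬ IsCyclic ↥(Q : Subgroup (G ⧸ pPrimeCore p G)) := by
      intro hcy
      apply hV
      rw [hQ] at hcy
      have hf : Function.Injective (((QuotientGroup.mk' (pPrimeCore p G)).comp V.subtype).codRestrict (img p P)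
        (fun v => mem_map_of_mem _ (hVP v.2))) := by
        intro v w hvw
        apply Subtype.ext
        exact Cfsg.Agent.H327.TI.eq_of_mk_eq hN hc (pElt_of_mem P.isPGroup' (hVP v.2))
          (pElt_of_mem P.isPGroup' (hVP w.2)) (congrArg Subtype.val hvw)
      exact isCyclic_of_injective _ hf
    have hQ1 : (Q : Subgroup (G ⧸ pPrimeCore p G)) ≠ ⊥ := by
      intro h1
      apply hQnc
      rw [h1]
      infer_instance
    have hNQ : normalizer ((Q : Subgroup (G ⧸ pPrimeCore p G)) : Set (G ⧸ pPrimeCore p G)) ≠ ⊤ := by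
      intro h1
      apply sylow_ne_one S hS3 hS5
      have h2 : Nat.card (Sylow p (G ⧸ pPrimeCore p G)) =
        (normalizer ((Q : Subgroup (G ⧸ pPrimeCore p G)) : Set (G ⧸ pPrimeCore p G))).index := Q.card_eq_index_normalizer
      rw [card_sylow_normal hTQ S hS5, h2, h1, Subgroup.index_top]
    rcases h20 (G ⧸ pPrimeCore p G) S hS2 hS3 hS4 p hp2 _ (Cfsg.Agent.H666.Link.stronglyP hTQ Q hQ1 hNQ) with h1 | h1
    · exact absurd (h1 Q) hQnc
    · rcases main_odd hp2 hTQ Q hQnc S hS3 hS4 hS5 h49 h1 with h2 | ⟨h2, h3⟩ | ⟨rfl, h2, h3⟩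
      · exact hrank h2
      · rw [hQ] at h2
        rcases h3 with ⟨rfl, h3 | h3⟩ | ⟨rfl, h3 | h3⟩ | ⟨rfl, h3⟩
        · exact hl G P S hsit h2 h3
        · exact h11 G P S hsit h2 h3
        · exact ht G P S hsit h2 h3
        · exact hm G P S hsit h2 h3
        · exact hj G P S hsit h2 h3
      · rw [hQ] at h2
        exact hsz G P S hsit h2 h3

end Cfsg.Agent.H476.TI
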