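import Cfsg.Agent.H476.TI.Red
import Cfsg.Agent.S4749
import Cfsg.Agent.H193.StrP.LieFill
import Cfsg.Agent.H193.StrP.Spor
import Cfsg.Agent.H193.StrP.Main
import Cfsg.Agent.H496.SpTwF.Row
import Cfsg.Agent.H975.FieldInput
import Cfsg.Agent.H49.ThFiveRow
import Cfsg.Agent.H154.StrP.M13
import Cfsg.Agent.H746.MEleven.Final
import Cfsg.Agent.H810.StrP.TwE6Two
import Cfsg.Agent.OrdDiv.Table
import Cfsg.Agent.S0000

/-!
# S4819, T1: the inputs of `Red` (helper476)

`goal20` (from the proof of S2120), `goal49` (from S4749), `rk_red` : the reduction without these hypotheses.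
-/

set_option autoImplicit false

namespace Cfsg.Agent.H476.TI

open Subgroup Cfsg

universe u

theorem goal20 : Goal20.{u} := by
  intro X _ _ K _ hs hna hc p _ hp2 H hH
  have hK0 : ∀ (S : Type) [Group S] [Finite S] [IsSimpleGroup S], IsKnownSimple' S := fun S _ _ _ => S0000.result
  have hK : IsKnownSimple' ↥K := S0000.result
  have hO : H193.StrP.SporOpen.{u} := by
    refine ⟨fun G _ _ h => H49.ThFive.nosp_th_5 OrdDiv.table hK0 h,
      fun G _ _ h => H746.MEleven.nosp_m_11 OrdDiv.table hK0 h,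
      fun G _ _ h => H154.StrP.M13.nosp_m_13 OrdDiv.table hK0 h, ?_, hK0⟩
    intro K _ _ hF q hq
    simp only [List.mem_cons, List.not_mem_nil, or_false] at hq
    rcases hq with rfl | rfl | rfl
    · exact H810.StrP.TwE6Two.noSP3 hF
    · exact H810.StrP.TwE6Two.noSP5 hF
    · exact H810.StrP.TwE6Two.noSP7 hF
  have key := Cfsg.Agent.H193.StrP.main
    (H193.StrP.lieRow (H193.StrP.lieOpen_of fun h _ _ hp2 => H496.SpTwF.RowFin.row_2F4 h hp2))
    (H193.StrP.sporRow hO) H193.StrP.titsRow H975.FieldInput.fieldRow K hs hna hc hK p hp2 H hH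
  rcases key with h | h | h | h | h | h | h | h
  · exact Or.inl h
  · exact Or.inr (Or.inl h)
  · exact Or.inr (Or.inr (Or.inl h))
  · exact Or.inr (Or.inr (Or.inr (Or.inl h)))
  · exact Or.inr (Or.inr (Or.inr (Or.inr (Or.inl h))))
  · exact Or.inr (Or.inr (Or.inr (Or.inr (Or.inr (Or.inl h)))))
  · exact Or.inr (Or.inr (Or.inr (Or.inr (Or.inr (Or.inr (Or.inl h))))))
  · exact Or.inr (Or.inr (Or.inr (Or.inr (Or.inr (Or.inr (Or.inr h))))))

theorem goal49 : Goal49.{u} := by
  intro L _ _ _ hna R hTI hnc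
  have h5 : Fact (Nat.Prime 5) := ⟨Nat.prime_five⟩
  rcases Cfsg.Agent.S4749.result hna 5 R hTI hnc with h | h | h | h | h | h
  · exact Or.inl h
  · exact Or.inr (Or.inl h)
  · exact absurd h.1 (by norm_num)
  · exact absurd h.1 (by norm_num)
  · exact Or.inr (Or.inr h.2)
  · exact absurd h.1 (by norm_num)

open Cfsg.Agent.H723.TI

/-- **T1** -/
theorem rk_red (hR1 : RankOne.{u}) (h11 : RowM11.{u})
    (hl : RowL34.{u}) (ht : RowTits.{u}) (hm : RowMcL.{u}) (hj : RowJ4.{u}) (hsz : RowSz32.{u})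
    {p : ℕ} [hp : Fact p.Prime] {G : Type u} [Group G] [Finite G] (P : Sylow p G) (hTI : TIs P)
    (hn : ¬ (P : Subgroup G).Normal) {V : Subgroup G} (hVP : V ≤ P) (hVc : IsMulCommutative V)
    (hV : ¬ IsCyclic V) : Rk p P :=
  rk_noncyclic goal20 goal49 hR1 h11 hl ht hm hj hsz P hTI hn hVP hVc hV

end Cfsg.Agent.H476.TI
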